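import Cfsg.Agent.ShultGross.Core
import Cfsg.Agent.PQFpf.Group
import Cfsg.Agent.S3Fpf.Group
import Mathlib

/-!
The Shult–Gross theorem: a solvable group with a fixed-point-free automorphism of order dividing `p ^ n`, `p` odd,
has Fitting height at most `n`.
-/

set_option autoImplicit false
set_option linter.style.haveILetI false
set_option linter.unusedSectionVars false

namespace CfsgLib.ShultGross

open CfsgLib.S3Fpf (autLin autLin_injective autLin_apply)
open scoped TensorProduct

universe u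

variable {G : Type u} [Group G]

/-- The automorphism of a finite quotient induced by an automorphism stabilising the kernel. -/
noncomputable def quotAut [Finite G] (K : Subgroup G) [K.Normal] (σ : MulAut G) (h : ∀ x ∈ K, σ x ∈ K) :
    MulAut (G ⧸ K) :=
  MulEquiv.ofBijective (QuotientGroup.map K K σ.toMonoidHom fun u hu => h u hu)
    (Function.Surjective.bijective_of_finite fun y => by
      induction y using QuotientGroup.induction_on with
      | _ y =>
        obtain ⟨x, rfl⟩ := σ.surjective y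
        exact ⟨(x : G ⧸ K), rfl⟩)

theorem quotAut_mk [Finite G] {K : Subgroup G} [K.Normal] {σ : MulAut G} (h : ∀ x ∈ K, σ x ∈ K) (x : G) :
    quotAut K σ h (x : G ⧸ K) = ((σ x : G) : G ⧸ K) := rfl

theorem quotAut_pow [Finite G] {K : Subgroup G} [K.Normal] {σ : MulAut G} (h : ∀ x ∈ K, σ x ∈ K) (i : ℕ) (x : G) :
    (quotAut K σ h ^ i) (x : G ⧸ K) = (((σ ^ i) x : G) : G ⧸ K) := by
  induction i generalizing x with
  | zero => rfl
  | succ i ih => rw [pow_succ, MulAut.mul_apply, quotAut_mk, ih, pow_succ σ, MulAut.mul_apply]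

/-- The restriction of an automorphism to a stabilised finite subgroup. -/
noncomputable def subAut [Finite G] (K : Subgroup G) (σ : MulAut G) (h : ∀ x ∈ K, σ x ∈ K) : MulAut K :=
  MulEquiv.ofBijective ((σ.toMonoidHom.comp K.subtype).codRestrict K fun x => h x x.2)
    (Function.Injective.bijective_of_finite fun a b hab => Subtype.ext (σ.injective (congrArg Subtype.val hab :)))

theorem subAut_pow [Finite G] {K : Subgroup G} {σ : MulAut G} (h : ∀ x ∈ K, σ x ∈ K) (i : ℕ) (x : K) :
    ((subAut K σ h ^ i) x : G) = (σ ^ i) (x : G) := by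
  induction i generalizing x with
  | zero => rfl
  | succ i ih => rw [pow_succ, MulAut.mul_apply, ih, pow_succ σ, MulAut.mul_apply]; rfl

theorem mem_of_fixed_mk [Finite G] {σ : MulAut G} (hfpf : ∀ g, σ g = g → g = 1) {K : Subgroup G}
    (h : ∀ x ∈ K, σ x ∈ K) {g : G} (hg : g⁻¹ * σ g ∈ K) : g ∈ K := by
  have hinj : Function.Injective fun x : G => x⁻¹ * σ x := by
    intro a b hab
    have h1 : σ (b * a⁻¹) = b * a⁻¹ := by
      have hab' : a⁻¹ * σ a = b⁻¹ * σ b := hab
      rw [map_mul, map_inv, show σ b = b * (a⁻¹ * σ a) by rw [hab', mul_inv_cancel_left]]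
      group
    have := hfpf _ h1
    rw [mul_inv_eq_one] at this
    exact this.symm
  have hsurj : Function.Surjective fun x : K => (⟨(x : G)⁻¹ * σ x, mul_mem (inv_mem x.2) (h x x.2)⟩ : K) :=
    (Finite.injective_iff_surjective).1 fun a b hab => Subtype.ext (hinj (congrArg Subtype.val hab :))
  obtain ⟨y, hy⟩ := hsurj ⟨_, hg⟩
  have e : (y : G) = g := hinj (congrArg Subtype.val hy :)
  exact e ▸ y.2

theorem quotAut_fpf [Finite G] {σ : MulAut G} (hfpf : ∀ g, σ g = g → g = 1) {K : Subgroup G} [K.Normal]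
    (h : ∀ x ∈ K, σ x ∈ K) (y : G ⧸ K) (hy : quotAut K σ h y = y) : y = 1 := by
  induction y using QuotientGroup.induction_on with
  | _ g =>
    rw [quotAut_mk, eq_comm, QuotientGroup.eq] at hy
    exact (QuotientGroup.eq_one_iff g).2 (mem_of_fixed_mk hfpf h hy)

/-- The normal subgroup generated by the moves of an automorphism. -/
def moves (s : MulAut G) : Subgroup G := Subgroup.normalClosure (Set.range fun g => g⁻¹ * s g)

theorem moves_le {s : MulAut G} {N : Subgroup G} [N.Normal] (h : ∀ g, g⁻¹ * s g ∈ N) : moves s ≤ N :=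
  Subgroup.normalClosure_le_normal (by rintro _ ⟨g, rfl⟩; exact h g)

theorem mem_moves (s : MulAut G) (g : G) : g⁻¹ * s g ∈ moves s := Subgroup.subset_normalClosure ⟨g, rfl⟩

theorem map_mem_moves {s t : MulAut G} (hc : Commute t s) {x : G} (hx : x ∈ moves s) : t x ∈ moves s := by
  have hn : (moves s).Normal := Subgroup.normalClosure_normal
  haveI : ((moves s).comap t.toMonoidHom).Normal := hn.comap _
  refine moves_le (N := (moves s).comap t.toMonoidHom) (fun g => ?_) hx
  show t (g⁻¹ * s g) ∈ moves s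
  rw [map_mul, map_inv, ← MulAut.mul_apply, hc.eq, MulAut.mul_apply]
  exact mem_moves s _

variable {p n : ℕ}

theorem not_dvd_card [Finite G] (hp : p.Prime) {σ : MulAut G} {N : ℕ} (hσ : σ ^ p ^ N = 1)
    (hfpf : ∀ g, σ g = g → g = 1) : ¬ p ∣ Nat.card G := by
  haveI := Fact.mk hp
  have hP : IsPGroup p (Subgroup.zpowers σ) := fun a => ⟨N, Subtype.ext (by
    obtain ⟨i, hi⟩ := Subgroup.mem_zpowers_iff.1 a.2
    rw [Subgroup.coe_pow, ← hi, ← zpow_natCast, ← zpow_mul, mul_comm, zpow_mul, zpow_natCast, hσ, one_zpow]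
    rfl)⟩
  intro hd
  obtain ⟨y, hy, hne⟩ := hP.exists_fixed_point_of_prime_dvd_card_of_fixed_point G hd (a := (1 : G))
    (fun a => map_one (a : MulAut G))
  exact hne (hfpf y (hy ⟨σ, Subgroup.mem_zpowers σ⟩)).symm

/-- The module core over an algebraically closed field. -/
theorem no_action {S : Type u} [Group S] [Finite S] {V : Type u} [CommGroup V] [Finite V] {r q : ℕ}
    (hp : p.Prime) (hp2 : p ≠ 2) (hq : q.Prime) (hqp : q ≠ p) (hr : r.Prime) (hrp : r ≠ p) (hrq : r ≠ q)
    (hS : IsPGroup q S) (hV : ∀ v : V, v ^ r = 1) (ρ : S →* MulAut V) (hρ : Function.Injective ρ)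
    (σ : MulAut S) (c : MulAut V) (hσ : σ ^ p ^ (n + 1) = 1) (hc : c ^ p ^ (n + 1) = 1)
    (hcompat : ∀ x v, c (ρ x v) = ρ (σ x) (c v)) (hSfpf : ∀ x, σ x = x → x = 1) (hVfpf : ∀ v, c v = v → v = 1)
    (hmin : ∀ N : Subgroup S, N ≠ ⊤ → (∀ x ∈ N, σ x ∈ N) → ∀ x ∈ N, (σ ^ p ^ n) x = x)
    (hmoves : σ ^ p ^ n ≠ 1) : False := by
  classical
  haveI := Fact.mk hr
  letI instM : Module (ZMod r) (Additive V) :=
    AddCommGroup.zmodModule (n := r) (G := Additive V) (fun v => by
      show Additive.ofMul (Additive.toMul v ^ r) = _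
      rw [hV]
      rfl)
  have hM : Module (ZMod r) (Additive V) := inferInstance
  let k := AlgebraicClosure (ZMod r)
  let lin : MulAut V →* Module.End (ZMod r) (Additive V) := autLin r
  let bc : Module.End (ZMod r) (Additive V) →* Module.End k (k ⊗[ZMod r] Additive V) :=
    (Module.End.baseChangeHom (ZMod r) k (Additive V)).toRingHom.toMonoidHom
  have hbc : Function.Injective bc := LinearMap.baseChangeHom_injective (ZMod r) (Additive V) k
  let L : MulAut V →* Module.End k (k ⊗[ZMod r] Additive V) := bc.comp lin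
  haveI : CharP k r := charP_of_injective_algebraMap (algebraMap (ZMod r) k).injective r
  haveI : Module.Finite (ZMod r) (Additive V) := Module.Finite.of_finite
  have D : Setup (L.comp ρ) σ (L c) p n q :=
    { hp := hp
      hp2 := hp2
      hq := hq
      hqp := hqp
      hS := hS
      hσ := hσ
      hC := by rw [← map_pow, hc, map_one]
      compat := fun x => by
        show L c * L (ρ x) = L (ρ (σ x)) * L c
        rw [← map_mul, ← map_mul]
        exact congrArg L (MulEquiv.ext fun v => hcompat x v)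
      hsum := by
        have h0 : ∑ i ∈ Finset.range (p ^ (n + 1)), lin (c ^ i) = 0 := by
          refine LinearMap.ext fun v => ?_
          obtain ⟨v, rfl⟩ := Additive.ofMul.surjective v
          rw [LinearMap.sum_apply, LinearMap.zero_apply]
          show ∑ i ∈ Finset.range (p ^ (n + 1)), autLin r (c ^ i) (Additive.ofMul v) = 0
          simp only [autLin_apply]
          rw [← ofMul_prod]
          have h1 : ∏ i ∈ Finset.range (p ^ (n + 1)), (c ^ i) v = 1 := hVfpf _ (by
            obtain ⟨N', hN'⟩ : ∃ N', p ^ (n + 1) = N' + 1 :=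
              ⟨p ^ (n + 1) - 1, (Nat.sub_add_cancel (Nat.one_le_pow _ _ hp.pos)).symm⟩
            rw [map_prod, Finset.prod_congr rfl fun i _ => show c ((c ^ i) v) = (c ^ (i + 1)) v by
              rw [pow_succ', MulAut.mul_apply], hN']
            conv_lhs => rw [Finset.prod_range_succ]
            conv_rhs => rw [Finset.prod_range_succ']
            rw [← hN', hc, pow_zero])
          rw [h1]
          rfl
        have h1 := congrArg (Module.End.baseChangeHom (ZMod r) k (Additive V)) h0
        rw [map_sum, map_zero] at h1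
        rw [← h1]
        exact Finset.sum_congr rfl fun i _ => (map_pow L c i).symm
      hfix := hSfpf
      hmin := hmin
      hk := fun h => hrp ((Nat.prime_dvd_prime_iff_eq hr hp).1 ((CharP.cast_eq_zero_iff k r p).1 h))
      hkS := fun h => by
        haveI := Fact.mk hq
        obtain ⟨a, ha⟩ := hS.exists_card_eq
        rw [CharP.cast_eq_zero_iff k r, ha] at h
        exact hrq ((Nat.prime_dvd_prime_iff_eq hr hq).1 (hr.dvd_of_dvd_pow h))
      hmoves := hmoves }
  exact D.not_injective ((hbc.comp (autLin_injective r)).comp hρ)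

/-- The moves of the part of order `p` generate a nilpotent subgroup. -/
theorem moves_nilpotent (hp : p.Prime) (hp2 : p ≠ 2) : ∀ (N : ℕ) (G : Type u) [Group G] [Finite G],
    Nat.card G = N → Group.IsSolvable G → ∀ σ : MulAut G, σ ^ p ^ (n + 1) = 1 → (∀ g, σ g = g → g = 1) →
      Group.IsNilpotent (moves (σ ^ p ^ n)) := by
  classical
  intro N
  induction N using Nat.strong_induction_on with
  | _ N ih =>
  intro G _ _ hN hG σ hσ hfpf
  subst hN
  rcases subsingleton_or_nontrivial G with hG1 | hG1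
  · infer_instance
  have hpG := not_dvd_card hp hσ hfpf
  haveI := hG
  let A := Subgroup.zpowers σ
  letI : MulDistribMulAction A G := MulDistribMulAction.compHom G A.subtype
  haveI : Fintype A := Fintype.ofFinite A
  obtain ⟨V, r, hr, hV0, hVn, hVi, hVc, hVexp, hVmin⟩ := PQFpf.exists_minimal (A := A) (G := G) hG
  haveI := hVn
  haveI := Fact.mk hr
  haveI : Nontrivial V := V.nontrivial_iff_ne_bot.2 hV0
  letI : CommGroup V :=
    { (inferInstance : Group V) with mul_comm := fun a b => Subtype.ext (hVc a a.2 b b.2) }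
  have hσV : ∀ x ∈ V, σ x ∈ V := fun x hx => hVi ⟨σ, Subgroup.mem_zpowers σ⟩ x hx
  have hVp : IsPGroup r V := fun v => ⟨1, Subtype.ext (by rw [pow_one, Subgroup.coe_pow]; exact hVexp v v.2)⟩
  have hrG : r ∣ Nat.card G := by
    obtain ⟨v, hv⟩ := exists_ne (1 : V)
    have h1 : orderOf (v : G) = r := orderOf_eq_prime (hVexp v v.2) fun h => hv (Subtype.ext h)
    exact h1 ▸ orderOf_dvd_natCard _
  have hrp : r ≠ p := fun h => hpG (h ▸ hrG)
  set s0 := σ ^ p ^ n with hs0
  let ρ₀ : G →* MulAut V := MulAut.conjNormal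
  have hρ : ∀ (g : G) (v : V), ((ρ₀ g v : V) : G) = g * v * g⁻¹ := fun g v => rfl
  have hVle : V ≤ ρ₀.ker := fun x hx => by
    rw [MonoidHom.mem_ker]
    ext v
    rw [hρ, MulAut.one_apply, hVc x hx v v.2, mul_inv_cancel_right]
  let c := subAut V σ hσV
  have hc : c ^ p ^ (n + 1) = 1 := MulEquiv.ext fun v => Subtype.ext (by rw [subAut_pow, hσ]; rfl)
  have hcompat : ∀ g v, ρ₀ (σ g) (c v) = c (ρ₀ g v) := fun g v => Subtype.ext (by
    rw [hρ]
    show σ g * σ (v : G) * (σ g)⁻¹ = σ ((ρ₀ g v : V) : G)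
    rw [hρ, map_mul, map_mul, map_inv])
  have hKi : ∀ x ∈ ρ₀.ker, σ x ∈ ρ₀.ker := fun g hg => by
    rw [MonoidHom.mem_ker] at hg ⊢
    ext v
    obtain ⟨w, rfl⟩ := c.surjective v
    rw [hcompat, hg]
    rfl
  have himage : ∀ (K : Subgroup G) [K.Normal] (hK : ∀ x ∈ K, σ x ∈ K), K ≠ ⊥ →
      Group.IsNilpotent (moves (quotAut K σ hK ^ p ^ n)) := by
    intro K _ hK hne
    refine ih _ ?_ (G ⧸ K) rfl inferInstance _ (MulEquiv.ext fun y => ?_) (quotAut_fpf hfpf hK)
    · rw [Subgroup.card_eq_card_quotient_mul_card_subgroup K]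
      haveI := K.nontrivial_iff_ne_bot.2 hne
      exact lt_mul_right Nat.card_pos Finite.one_lt_card
    · induction y using QuotientGroup.induction_on with
      | _ g => rw [quotAut_pow, hσ]; rfl
  have hkne : ρ₀.ker ≠ ⊥ := fun h => hV0 (le_bot_iff.1 (h ▸ hVle))
  suffices hact : ∀ g : G, g⁻¹ * s0 g ∈ ρ₀.ker by
    have hle : moves s0 ≤ ρ₀.ker := moves_le hact
    haveI := himage V hσV hV0
    let f : moves s0 →* moves (quotAut V σ hσV ^ p ^ n) :=
      ((QuotientGroup.mk' V).comp (moves s0).subtype).codRestrict _ fun x => by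
        have hmap : moves s0 ≤ (moves (quotAut V σ hσV ^ p ^ n)).comap (QuotientGroup.mk' V) := by
          haveI : (moves (quotAut V σ hσV ^ p ^ n)).Normal := Subgroup.normalClosure_normal
          refine moves_le fun g => ?_
          rw [Subgroup.mem_comap, QuotientGroup.mk'_apply, QuotientGroup.mk_mul, QuotientGroup.mk_inv,
            ← quotAut_pow hσV]
          exact mem_moves _ _
        exact hmap x.2
    refine Subgroup.isNilpotent_of_ker_le_center f fun x hx => ?_
    rw [Subgroup.mem_center_iff]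
    intro g
    have hxV : (x : G) ∈ V := (QuotientGroup.eq_one_iff (x : G)).1 (congrArg Subtype.val (MonoidHom.mem_ker.1 hx))
    have hg : ρ₀ g = 1 := MonoidHom.mem_ker.1 (hle g.2)
    have h2 : ((ρ₀ g ⟨x, hxV⟩ : V) : G) = x := by rw [hg]; rfl
    rw [hρ, mul_inv_eq_iff_eq_mul] at h2
    exact Subtype.ext h2
  haveI hKnil := himage ρ₀.ker hKi hkne
  set σH := quotAut ρ₀.ker σ hKi with hσH
  have hσHfpf : ∀ y, σH y = y → y = 1 := quotAut_fpf hfpf hKi
  have hσHN : σH ^ p ^ (n + 1) = 1 := MulEquiv.ext fun y => by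
    induction y using QuotientGroup.induction_on with
    | _ g => rw [quotAut_pow, hσ]; rfl
  let K := moves (σH ^ p ^ n)
  haveI : K.Normal := Subgroup.normalClosure_normal
  have hKσ : ∀ x ∈ K, σH x ∈ K := fun x hx => map_mem_moves (Commute.self_pow σH _) hx
  have hfixall : ∀ x ∈ K, (σH ^ p ^ n) x = x := by
    by_contra hne
    let F : Subgroup K :=
      { carrier := {x | (σH ^ p ^ n) (x : G ⧸ ρ₀.ker) = x}
        one_mem' := map_one _
        mul_mem' := fun {a b} ha hb => by
          simp only [Set.mem_ofPred_eq] at ha hb ⊢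
          rw [Subgroup.coe_mul, map_mul, ha, hb]
        inv_mem' := fun {a} ha => by
          simp only [Set.mem_ofPred_eq] at ha ⊢
          rw [Subgroup.coe_inv, map_inv, ha] }
    -- a Sylow subgroup moved
    obtain ⟨q, hq, P, hP⟩ : ∃ (q : ℕ) (hq : Fact q.Prime) (P : Sylow q K), ¬ (P : Subgroup K) ≤ F := by
      by_contra hall
      push Not at hall
      refine hne fun x hx => ?_
      have hd : Nat.card K ∣ Nat.card F := by
        refine (Nat.dvd_iff_prime_pow_dvd_dvd _ _).2 fun q e hq he => ?_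
        haveI := Fact.mk hq
        let P : Sylow q K := default
        refine Nat.dvd_trans ?_ (Subgroup.card_dvd_of_le (hall q ⟨hq⟩ P))
        rw [P.card_eq_multiplicity]
        exact pow_dvd_pow q ((hq.pow_dvd_iff_le_factorization Nat.card_pos.ne').1 he)
      have hF : F = ⊤ := Subgroup.eq_top_of_card_eq _ (Nat.dvd_antisymm (Subgroup.card_subgroup_dvd_card F) hd)
      exact (hF.ge (Subgroup.mem_top (⟨x, hx⟩ : K)) :)
    haveI := hq
    haveI : (P : Subgroup K).Normal :=
      P.normal_of_normalizerCondition (Group.normalizerCondition_of_isNilpotent (G := K))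
    haveI : (P : Subgroup K).Characteristic := P.characteristic_of_normal inferInstance
    set Q := (P : Subgroup K).map K.subtype with hQdef
    haveI hQn : Q.Normal := ConjAct.normal_of_characteristic_of_normal
    have hQσ : ∀ x ∈ Q, σH x ∈ Q := by
      rintro _ ⟨x, hx, rfl⟩
      exact ⟨subAut K σH hKσ x,
        (Subgroup.characteristic_iff_le_comap.1 (inferInstance : (P : Subgroup K).Characteristic))
          (subAut K σH hKσ) hx, rfl⟩
    have hQp : IsPGroup q Q := P.2.map _
    obtain ⟨x₀, hx₀, hx₀m⟩ : ∃ x ∈ Q, (σH ^ p ^ n) x ≠ x := by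
      by_contra h
      push Not at h
      exact hP fun x hx => h _ ⟨x, hx, rfl⟩
    let ρ : G ⧸ ρ₀.ker →* MulAut V := QuotientGroup.kerLift ρ₀
    have hρinj : Function.Injective ρ := QuotientGroup.kerLift_injective ρ₀
    have hcompatH : ∀ y v, c (ρ y v) = ρ (σH y) (c v) := fun y v => by
      induction y using QuotientGroup.induction_on with
      | _ g => exact (hcompat g v).symm
    have hrq : r ≠ q := by
      rintro rfl
      obtain ⟨v, hv1, hvfix⟩ := S3Fpf.fixed_ne_bot hVp ρ Q hQp
      let W : Subgroup G :=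
        { carrier := {x | ∃ hx : x ∈ V, ∀ g ∈ Q, ρ g ⟨x, hx⟩ = ⟨x, hx⟩}
          one_mem' := ⟨V.one_mem, fun g _ => map_one (ρ g)⟩
          mul_mem' := fun {x y} ⟨hx, hx'⟩ ⟨hy, hy'⟩ => ⟨V.mul_mem hx hy, fun g hg => by
            have := map_mul (ρ g) ⟨x, hx⟩ ⟨y, hy⟩
            rw [hx' g hg, hy' g hg] at this
            exact this⟩
          inv_mem' := fun {x} ⟨hx, hx'⟩ => ⟨V.inv_mem hx, fun g hg => by
            have := map_inv (ρ g) ⟨x, hx⟩
            rw [hx' g hg] at this
            exact this⟩ }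
      have hWn : W.Normal := ⟨fun x hxW g => ⟨hVn.conj_mem x hxW.1 g, fun d hd => by
        obtain ⟨hx, hx'⟩ := hxW
        have e : (⟨g * x * g⁻¹, hVn.conj_mem x hx g⟩ : V) = ρ (g : G ⧸ ρ₀.ker) ⟨x, hx⟩ :=
          Subtype.ext (hρ g ⟨x, hx⟩).symm
        rw [e, ← MulAut.mul_apply, ← map_mul,
          show d * (g : G ⧸ ρ₀.ker) = (g : G ⧸ ρ₀.ker) * ((g : G ⧸ ρ₀.ker)⁻¹ * d * g) by group,
          map_mul, MulAut.mul_apply, hx' _ (hQn.conj_mem' d hd _)]⟩⟩
      have hWσ : ∀ x ∈ W, σ x ∈ W := by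
        rintro x ⟨hx, hx'⟩
        refine ⟨hσV x hx, fun d hd => ?_⟩
        obtain ⟨d', hd'⟩ := (subAut Q σH hQσ).surjective ⟨d, hd⟩
        have e : σH (d' : G ⧸ ρ₀.ker) = d := congrArg Subtype.val hd'
        rw [← e, show (⟨σ x, hσV x hx⟩ : V) = c ⟨x, hx⟩ from rfl, ← hcompatH, hx' _ d'.2]
      have hWi : Coprime.IsInvariant A W := fun a x hx => by
        obtain ⟨i, hi⟩ := (Submonoid.mem_powers_iff _ _).1 (mem_powers_iff_mem_zpowers.2 a.2)
        show (a : MulAut G) x ∈ W
        rw [← hi]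
        exact pow_mem_of_invariant hWσ i x hx
      rcases hVmin W (fun x hx => hx.1) hWn hWi with hW | hW
      · exact hv1 (Subtype.ext (Subgroup.mem_bot.1 (hW ▸ (⟨v.2, hvfix⟩ : (v : G) ∈ W))))
      · refine hx₀m ?_
        have h1 : x₀ = 1 := by
          refine hρinj ?_
          rw [map_one]
          ext w
          obtain ⟨_, hw⟩ := hW.ge w.2
          exact congrArg Subtype.val (hw x₀ hx₀)
        rw [h1, map_one]
    -- a minimal moved invariant subgroup
    obtain ⟨S, hS⟩ := (Set.toFinite {S : Subgroup (G ⧸ ρ₀.ker) |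
      S ≤ Q ∧ (∀ x ∈ S, σH x ∈ S) ∧ ∃ x ∈ S, (σH ^ p ^ n) x ≠ x}).exists_minimal ⟨Q, le_rfl, hQσ, x₀, hx₀, hx₀m⟩
    obtain ⟨hSQ, hSσ, x₁, hx₁, hx₁m⟩ := hS.1
    have hSp : IsPGroup q S := hQp.to_le hSQ
    have hqp : q ≠ p := by
      rintro rfl
      have hd : q ∣ Nat.card S := by
        haveI : Nontrivial S :=
          ⟨⟨x₁, hx₁⟩, 1, fun h => hx₁m (by rw [show x₁ = 1 from congrArg Subtype.val h, map_one])⟩
        obtain ⟨e, he0, he⟩ := hSp.nontrivial_iff_card.1 inferInstance
        rw [he]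
        exact dvd_pow_self q he0.ne'
      exact hpG ((hd.trans S.card_subgroup_dvd_card).trans ρ₀.ker.card_quotient_dvd_card)
    refine no_action (n := n) hp hp2 hq.out hqp hr hrp hrq hSp (fun v => Subtype.ext (by
      rw [Subgroup.coe_pow]; exact hVexp v v.2)) (ρ.comp S.subtype) (hρinj.comp S.subtype_injective)
      (subAut S σH hSσ) c (MulEquiv.ext fun x => Subtype.ext (by rw [subAut_pow, hσHN]; rfl)) hc
      (fun x v => hcompatH x v) (fun x hx => Subtype.ext (hσHfpf _ (congrArg Subtype.val hx)))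
      (fun v hv => Subtype.ext (hfpf _ (congrArg Subtype.val hv))) (fun M hM hMσ x hx => Subtype.ext ?_)
      (fun h => hx₁m ?_)
    · rw [subAut_pow]
      by_contra hxm
      refine hM ((Subgroup.map_injective S.subtype_injective) ?_)
      rw [← MonoidHom.range_eq_map, Subgroup.range_subtype]
      refine le_antisymm (Subgroup.map_subtype_le M) (hS.2 ⟨(Subgroup.map_subtype_le M).trans hSQ, ?_, ?_⟩
        (Subgroup.map_subtype_le M))
      · rintro _ ⟨y, hy, rfl⟩
        exact ⟨_, hMσ y hy, rfl⟩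
      · exact ⟨_, ⟨x, hx, rfl⟩, hxm⟩
    · have := congrArg Subtype.val (DFunLike.congr_fun h (⟨x₁, hx₁⟩ : S))
      rw [subAut_pow] at this
      exact this
  intro g
  rw [← QuotientGroup.eq_one_iff, QuotientGroup.mk_mul, QuotientGroup.mk_inv]
  set y : G ⧸ ρ₀.ker := (g : G ⧸ ρ₀.ker)
  rw [show ((s0 g : G) : G ⧸ ρ₀.ker) = (σH ^ p ^ n) y from (quotAut_pow hKi _ g).symm]
  set w := y⁻¹ * (σH ^ p ^ n) y with hw
  have hwfix : (σH ^ p ^ n) w = w := hfixall w (mem_moves _ y)
  have hpow : ∀ i : ℕ, ((σH ^ p ^ n) ^ i) y = y * w ^ i := fun i => by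
    induction i with
    | zero => simp
    | succ i ih =>
      rw [pow_succ', MulAut.mul_apply, ih, map_mul, map_pow, hwfix, pow_succ',
        show (σH ^ p ^ n) y = y * w by rw [hw, mul_inv_cancel_left], mul_assoc]
  have h1 := hpow p
  rw [← pow_mul, ← pow_succ, hσHN, MulAut.one_apply, left_eq_mul] at h1
  by_contra hw1
  exact hpG ((orderOf_eq_prime (hp := Fact.mk hp) h1 hw1 ▸ orderOf_dvd_natCard w).trans
    ρ₀.ker.card_quotient_dvd_card)

/-- The Fitting series. -/
theorem exists_series (hp : p.Prime) (hp2 : p ≠ 2) : ∀ (n : ℕ) (G : Type u) [Group G] [Finite G],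
    Group.IsSolvable G → ∀ σ : MulAut G, σ ^ p ^ n = 1 → (∀ g, σ g = g → g = 1) →
      ∃ F : Fin (n + 1) → Subgroup G, F 0 = ⊥ ∧ F (Fin.last n) = ⊤ ∧ Monotone F ∧ (∀ i, (F i).Normal) ∧
        ∀ i : Fin n, ∃ k : ℕ, (F i.succ).lowerCentralSeries k ≤ F i.castSucc := by
  intro n
  induction n with
  | zero =>
    intro G _ _ _ σ hσ hfpf
    rw [pow_zero, pow_one] at hσ
    have : Subsingleton G := ⟨fun a b => (hfpf a (by rw [hσ]; rfl)).trans (hfpf b (by rw [hσ]; rfl)).symm⟩
    exact ⟨fun _ => ⊥, rfl, Subsingleton.elim _ _, monotone_const, fun _ => inferInstance, fun i => i.elim0⟩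
  | succ n ih =>
    intro G _ _ hG σ hσ hfpf
    haveI hKnil := moves_nilpotent hp hp2 _ G rfl hG σ hσ hfpf
    set K := moves (σ ^ p ^ n)
    haveI : K.Normal := Subgroup.normalClosure_normal
    have hKσ : ∀ x ∈ K, σ x ∈ K := fun x hx => map_mem_moves (Commute.self_pow σ _) hx
    haveI := hG
    obtain ⟨F', h0, hlast, hmono, hnorm, hlcs⟩ := ih (G ⧸ K) inferInstance (quotAut K σ hKσ)
      (MulEquiv.ext fun y => by
        induction y using QuotientGroup.induction_on with
        | _ g =>
          rw [quotAut_pow, MulAut.one_apply, eq_comm, QuotientGroup.eq]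
          exact mem_moves _ g) (quotAut_fpf hfpf hKσ)
    haveI := hnorm
    let F : Fin (n + 2) → Subgroup G := Fin.cases ⊥ fun i => (F' i).comap (QuotientGroup.mk' K)
    have hF0 : F 0 = ⊥ := rfl
    have hFs : ∀ i, F (Fin.succ i) = (F' i).comap (QuotientGroup.mk' K) := fun i => rfl
    refine ⟨F, hF0, ?_, ?_, ?_, ?_⟩
    · rw [← Fin.succ_last, hFs, hlast, Subgroup.comap_top]
    · rw [Fin.monotone_iff_le_succ]
      intro i
      induction i using Fin.cases with
      | zero => exact bot_le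
      | succ i =>
        rw [← Fin.succ_castSucc, hFs, hFs]
        exact Subgroup.comap_mono (hmono (Fin.castSucc_le_succ i))
    · intro i
      induction i using Fin.cases with
      | zero => rw [hF0]; infer_instance
      | succ i => rw [hFs]; infer_instance
    · intro i
      induction i using Fin.cases with
      | zero =>
        rw [hFs, h0, MonoidHom.comap_bot, QuotientGroup.ker_mk']
        obtain ⟨k, hk⟩ := (Subgroup.isNilpotent_iff_lowerCentralSeries K).1 hKnil
        exact ⟨k, hk.trans_le bot_le⟩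
      | succ i =>
        obtain ⟨k, hk⟩ := hlcs i
        refine ⟨k, ?_⟩
        rw [← Fin.succ_castSucc, hFs, hFs, ← Subgroup.map_le_iff_le_comap, Subgroup.map_lowerCentralSeries]
        exact (Subgroup.lowerCentralSeries_mono k (Subgroup.map_comap_le _ _)).trans hk

end CfsgLib.ShultGross
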